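import Mathlib
import Groth.Prelude.Def_Exal2

/-! helper7: formal unramifiedness for adic topologies on both rings is equivalent to vanishing of the completed module of differentials (derivation argument, trivial square-zero extension). -/

set_option autoImplicit false
set_option linter.style.haveILetI false
set_option linter.unusedVariables false
set_option linter.unusedSectionVars false

universe u

open TensorProduct KaehlerDifferential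

namespace Groth.Agent.Helper7.AdicUnrK

variable {A B : Type u} [CommRing A] [CommRing B] [Algebra A B]

/-- `d(𝔟^(m+1)) ⊆ 𝔟^m Ω`. -/
theorem D_mem_of_mem_pow_succ (𝔟 : Ideal B) (m : ℕ) (x : B) (hx : x ∈ 𝔟 ^ (m + 1)) :
    D A B x ∈ (𝔟 ^ m • ⊤ : Submodule B Ω[B⁄A]) := by
  induction m generalizing x with
  | zero =>
    rw [pow_zero, Ideal.one_eq_top, Submodule.top_smul]
    exact Submodule.mem_top
  | succ m ih =>
    rw [pow_succ] at hx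
    refine Submodule.mul_induction_on hx ?_ ?_
    · intro y hy z hz
      rw [Derivation.leibniz]
      refine add_mem ?_ ?_
      · -- y • D z, y ∈ 𝔟^(m+1)
        exact Submodule.smul_mem_smul hy Submodule.mem_top
      · -- z • D y, D y ∈ 𝔟^m • ⊤
        have h1 := ih y hy
        have h2 : z • D A B y ∈ (𝔟 • (𝔟 ^ m • ⊤ : Submodule B Ω[B⁄A])) :=
          Submodule.smul_mem_smul hz h1
        rw [← mul_smul, ← pow_succ'] at h2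
        exact h2
    · intro y z hy hz
      rw [map_add]
      exact add_mem hy hz

/-- Square-zero step of the uniqueness. -/
theorem sqZero_case (𝔟 : Ideal B) (hΩ : ∀ m : ℕ, (𝔟 ^ m • ⊤ : Submodule B Ω[B⁄A]) = ⊤)
    {S : Type u} [CommRing S] [Algebra A S] (N : Ideal S) (hN : N ^ 2 = ⊥)
    (v₁ v₂ : B →ₐ[A] S) (hv₂ : ∃ m : ℕ, ∀ x ∈ 𝔟 ^ m, v₂ x = 0)
    (h : ∀ b, v₁ b - v₂ b ∈ N) : v₁ = v₂ := by
  obtain ⟨m, hm⟩ := hv₂
  letI : Algebra B S := v₂.toRingHom.toAlgebra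
  haveI : IsScalarTower A B S := IsScalarTower.of_algebraMap_eq (fun a => (v₂.commutes a).symm)
  have e : (Ideal.Quotient.mkₐ A N).comp v₁ = IsScalarTower.toAlgHom A B (S ⧸ N) := by
    refine AlgHom.ext fun b => ?_
    show Ideal.Quotient.mk N (v₁ b) = Ideal.Quotient.mk N (v₂ b)
    exact Ideal.Quotient.eq.mpr (h b)
  let δ : Derivation A B N := derivationToSquareZeroOfLift N hN v₁ e
  have hδ : ∀ b, ((δ b : N) : S) = v₁ b - v₂ b := fun b => rfl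
  let ℓ : Ω[B⁄A] →ₗ[B] N := δ.liftKaehlerDifferential
  have hℓD : ∀ b, ℓ (D A B b) = δ b := fun b => δ.liftKaehlerDifferential_comp_D b
  have hkill : ∀ x ∈ 𝔟 ^ m, ∀ n : N, x • n = 0 := by
    intro x hx n
    apply Subtype.ext
    show algebraMap B S x * (n : S) = 0
    have : algebraMap B S x = v₂ x := rfl
    rw [this, hm x hx, zero_mul]
  have hℓ : ∀ ω, ℓ ω = 0 := by
    intro ω
    have hω : ω ∈ (𝔟 ^ m • ⊤ : Submodule B Ω[B⁄A]) := by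
      rw [hΩ m]; exact Submodule.mem_top
    refine Submodule.smul_induction_on hω (fun r hr n _ => ?_) (fun x y hx hy => ?_)
    · rw [map_smul]; exact hkill r hr _
    · rw [map_add, hx, hy, add_zero]
  refine AlgHom.ext fun b => ?_
  have h0 : ((δ b : N) : S) = 0 := by rw [← hℓD, hℓ]; rfl
  rw [hδ] at h0
  exact sub_eq_zero.mp h0

theorem nilpotent_case (𝔟 : Ideal B) (hΩ : ∀ m : ℕ, (𝔟 ^ m • ⊤ : Submodule B Ω[B⁄A]) = ⊤)
    {E : Type u} [CommRing E] (J : Ideal E) (hJ : IsNilpotent J) :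
    ∀ [Algebra A E], ∀ v₁ v₂ : B →ₐ[A] E, (∃ m : ℕ, ∀ x ∈ 𝔟 ^ m, v₂ x = 0) →
      (∀ b, v₁ b - v₂ b ∈ J) → v₁ = v₂ := by
  refine Ideal.IsNilpotent.induction_on (S := E) J hJ
    (P := fun S _ I => ∀ [Algebra A S], ∀ v₁ v₂ : B →ₐ[A] S,
      (∃ m : ℕ, ∀ x ∈ 𝔟 ^ m, v₂ x = 0) → (∀ b, v₁ b - v₂ b ∈ I) → v₁ = v₂) ?_ ?_
  · intro S _ I hI _ v₁ v₂ hv₂ h
    exact sqZero_case 𝔟 hΩ I hI v₁ v₂ hv₂ h
  · intro S _ I J' hIJ hPI hPJ _ v₁ v₂ hv₂ h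
    have h1 : (Ideal.Quotient.mkₐ A I).comp v₁ = (Ideal.Quotient.mkₐ A I).comp v₂ := by
      apply hPJ
      · obtain ⟨m, hm⟩ := hv₂
        refine ⟨m, fun x hx => ?_⟩
        show Ideal.Quotient.mk I (v₂ x) = 0
        rw [hm x hx, map_zero]
      · intro b
        have : ((Ideal.Quotient.mkₐ A I).comp v₁) b - ((Ideal.Quotient.mkₐ A I).comp v₂) b =
            Ideal.Quotient.mk I (v₁ b - v₂ b) := by simp [map_sub]
        rw [this]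
        exact Ideal.mem_map_of_mem _ (h b)
    apply hPI _ _ hv₂
    intro b
    have h2 := congrArg (fun f => f b) h1
    exact Ideal.Quotient.eq.mp h2

attribute [local instance] Exal.opModule Exal.isCentralScalar_opModule

/-- The truncated ring `B / 𝔟^m`. -/
abbrev Cm (𝔟 : Ideal B) (m : ℕ) : Type u := B ⧸ 𝔟 ^ m

variable (A) in
/-- The truncated module `Ω / 𝔟^m Ω`. -/
abbrev Lm (𝔟 : Ideal B) (m : ℕ) : Type u := Ω[B⁄A] ⧸ (𝔟 ^ m • ⊤ : Submodule B Ω[B⁄A])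

variable (A) in
/-- The trivial square-zero extension of `B / 𝔟^m` by `Ω / 𝔟^m Ω`. -/
abbrev Em (𝔟 : Ideal B) (m : ℕ) : Type u := TrivSqZeroExt (Cm 𝔟 m) (Lm A 𝔟 m)

/-- The "only if" half: uniqueness of continuous lifts forces `Ω = 𝔟^m Ω` for every `m`. -/
theorem smul_top_eq_top_of_unique (𝔞 : Ideal A) (𝔟 : Ideal B)
    (hAB : ∃ k : ℕ, (𝔞 ^ k).map (algebraMap A B) ≤ 𝔟)
    (H : ∀ (E : Type u) [CommRing E] [Algebra A E], (∃ k : ℕ, (𝔞 ^ k).map (algebraMap A E) = ⊥) →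
      ∀ J : Ideal E, IsNilpotent J → ∀ v₁ v₂ : B →ₐ[A] E,
        (∃ m : ℕ, ∀ x ∈ 𝔟 ^ m, v₁ x = 0) → (∃ m : ℕ, ∀ x ∈ 𝔟 ^ m, v₂ x = 0) →
        (∀ b : B, Ideal.Quotient.mk J (v₁ b) = Ideal.Quotient.mk J (v₂ b)) → v₁ = v₂)
    (m : ℕ) : (𝔟 ^ m • ⊤ : Submodule B Ω[B⁄A]) = ⊤ := by
  obtain ⟨k, hk⟩ := hAB
  let D₀ : Derivation A B (Lm A 𝔟 m) :=
    (Submodule.mkQ (𝔟 ^ m • ⊤ : Submodule B Ω[B⁄A])).compDer (D A B)
  let w₁ : B →+* Em A 𝔟 m :=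
    Exal.Ext.derivationHom (C := Cm 𝔟 m) (0 : Derivation A B (Lm A 𝔟 m))
  let w₂ : B →+* Em A 𝔟 m := Exal.Ext.derivationHom (C := Cm 𝔟 m) D₀
  have hw₁ : ∀ b, w₁ b = TrivSqZeroExt.inl (algebraMap B (Cm 𝔟 m) b) := by
    intro b
    show TrivSqZeroExt.inl (algebraMap B (Cm 𝔟 m) b) +
      TrivSqZeroExt.inr ((0 : Derivation A B (Lm A 𝔟 m)) b) = _
    rw [Derivation.zero_apply, TrivSqZeroExt.inr_zero, add_zero]
  have hw₂ : ∀ b, w₂ b = TrivSqZeroExt.inl (algebraMap B (Cm 𝔟 m) b) + TrivSqZeroExt.inr (D₀ b) :=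
    fun b => rfl
  letI : Algebra A (Em A 𝔟 m) := (w₁.comp (algebraMap A B)).toAlgebra
  have halg : ∀ a, algebraMap A (Em A 𝔟 m) a = w₁ (algebraMap A B a) := fun a => rfl
  let v₁ : B →ₐ[A] Em A 𝔟 m := { w₁ with commutes' := fun a => rfl }
  have hcomm₂ : ∀ a, w₂ (algebraMap A B a) = algebraMap A (Em A 𝔟 m) a := by
    intro a
    rw [halg, hw₁, hw₂, Derivation.map_algebraMap, TrivSqZeroExt.inr_zero, add_zero]
  let v₂ : B →ₐ[A] Em A 𝔟 m := { w₂ with commutes' := hcomm₂ }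
  have hv₁ : ∀ b, v₁ b = w₁ b := fun b => rfl
  have hv₂ : ∀ b, v₂ b = w₂ b := fun b => rfl
  have hmk : ∀ x ∈ 𝔟 ^ m, algebraMap B (Cm 𝔟 m) x = 0 := fun x hx =>
    Ideal.Quotient.eq_zero_iff_mem.mpr hx
  have hE : (𝔞 ^ (k * m)).map (algebraMap A (Em A 𝔟 m)) = ⊥ := by
    rw [eq_bot_iff, Ideal.map_le_iff_le_comap]
    intro a ha
    rw [Ideal.mem_comap, Ideal.mem_bot, halg, hw₁]
    have h1 : algebraMap A B a ∈ 𝔟 ^ m := by
      rw [pow_mul] at ha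
      have h2 : algebraMap A B a ∈ ((𝔞 ^ k) ^ m).map (algebraMap A B) := Ideal.mem_map_of_mem _ ha
      rw [Ideal.map_pow] at h2
      exact Ideal.pow_right_mono hk m h2
    rw [hmk _ h1, TrivSqZeroExt.inl_zero]
  have hc₁ : ∃ m' : ℕ, ∀ x ∈ 𝔟 ^ m', v₁ x = 0 := by
    refine ⟨m, fun x hx => ?_⟩
    rw [hv₁, hw₁, hmk x hx, TrivSqZeroExt.inl_zero]
  have hc₂ : ∃ m' : ℕ, ∀ x ∈ 𝔟 ^ m', v₂ x = 0 := by
    refine ⟨m + 1, fun x hx => ?_⟩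
    have hx' : x ∈ 𝔟 ^ m := Ideal.pow_le_pow_right (Nat.le_succ m) hx
    have hD : D₀ x = 0 := by
      show Submodule.mkQ _ (D A B x) = 0
      rw [Submodule.mkQ_apply, Submodule.Quotient.mk_eq_zero]
      exact D_mem_of_mem_pow_succ 𝔟 m x hx
    rw [hv₂, hw₂, hmk x hx', hD, TrivSqZeroExt.inl_zero, TrivSqZeroExt.inr_zero, add_zero]
  have hJ : IsNilpotent (TrivSqZeroExt.kerIdeal (Cm 𝔟 m) (Lm A 𝔟 m)) := ⟨2, TrivSqZeroExt.kerIdeal_sq (Cm 𝔟 m) (Lm A 𝔟 m)⟩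
  have hagree : ∀ b : B, Ideal.Quotient.mk (TrivSqZeroExt.kerIdeal (Cm 𝔟 m) (Lm A 𝔟 m)) (v₁ b) =
      Ideal.Quotient.mk (TrivSqZeroExt.kerIdeal (Cm 𝔟 m) (Lm A 𝔟 m)) (v₂ b) := by
    intro b
    rw [Ideal.Quotient.eq, hv₁, hv₂, hw₁, hw₂, sub_add_cancel_left]
    show TrivSqZeroExt.fstHom (Cm 𝔟 m) (Cm 𝔟 m) (Lm A 𝔟 m) (-TrivSqZeroExt.inr (D₀ b)) = 0
    simp
  have heq := H (Em A 𝔟 m) ⟨k * m, hE⟩ (TrivSqZeroExt.kerIdeal (Cm 𝔟 m) (Lm A 𝔟 m)) hJ v₁ v₂ hc₁ hc₂ hagree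
  have hD0 : ∀ b, D A B b ∈ (𝔟 ^ m • ⊤ : Submodule B Ω[B⁄A]) := by
    intro b
    have h1 := congrArg (fun φ => TrivSqZeroExt.snd (φ b)) heq
    simp only [hv₁, hv₂, hw₁, hw₂, TrivSqZeroExt.snd_add, TrivSqZeroExt.snd_inl,
      TrivSqZeroExt.snd_inr, zero_add] at h1
    have h2 : Submodule.mkQ (𝔟 ^ m • ⊤ : Submodule B Ω[B⁄A]) (D A B b) = 0 := h1.symm
    rwa [Submodule.mkQ_apply, Submodule.Quotient.mk_eq_zero] at h2
  rw [eq_top_iff]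
  intro ω _
  have hω : ω ∈ Submodule.span B (Set.range (D A B)) := by
    rw [KaehlerDifferential.span_range_derivation]
    exact Submodule.mem_top
  refine (Submodule.span_le (p := (𝔟 ^ m • ⊤ : Submodule B Ω[B⁄A]))).mpr ?_ hω
  rintro _ ⟨b, rfl⟩
  exact hD0 b

theorem main (𝔞 : Ideal A) (𝔟 : Ideal B) (hAB : ∃ k : ℕ, (𝔞 ^ k).map (algebraMap A B) ≤ 𝔟) :
    (∀ (E : Type u) [CommRing E] [Algebra A E], (∃ k : ℕ, (𝔞 ^ k).map (algebraMap A E) = ⊥) →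
      ∀ J : Ideal E, IsNilpotent J → ∀ v₁ v₂ : B →ₐ[A] E,
        (∃ m : ℕ, ∀ x ∈ 𝔟 ^ m, v₁ x = 0) → (∃ m : ℕ, ∀ x ∈ 𝔟 ^ m, v₂ x = 0) →
        (∀ b : B, Ideal.Quotient.mk J (v₁ b) = Ideal.Quotient.mk J (v₂ b)) → v₁ = v₂) ↔
    Subsingleton (AdicCompletion 𝔟 (Ω[B⁄A])) := by
  constructor
  · intro H
    have hΩ := smul_top_eq_top_of_unique 𝔞 𝔟 hAB H
    refine ⟨fun x y => AdicCompletion.ext fun n => ?_⟩
    haveI : Subsingleton (Ω[B⁄A] ⧸ (𝔟 ^ n • ⊤ : Submodule B Ω[B⁄A])) :=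
      Submodule.Quotient.subsingleton_iff.mpr (hΩ n)
    exact Subsingleton.elim _ _
  · intro hsub E _ _ _ J hJ v₁ v₂ _ hv₂ h
    have hΩ : ∀ m : ℕ, (𝔟 ^ m • ⊤ : Submodule B Ω[B⁄A]) = ⊤ := by
      intro m
      have hs := AdicCompletion.eval_surjective 𝔟 (Ω[B⁄A]) m
      haveI : Subsingleton (Ω[B⁄A] ⧸ (𝔟 ^ m • ⊤ : Submodule B Ω[B⁄A])) := hs.subsingleton
      exact Submodule.Quotient.subsingleton_iff.mp inferInstance
    exact nilpotent_case 𝔟 hΩ J hJ v₁ v₂ hv₂ (fun b => Ideal.Quotient.eq.mp (h b))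

end Groth.Agent.Helper7.AdicUnrK
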